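import Groth.Prelude.Def_CechOX
import Groth.Agent.Lib.Cech.Contract98
import Groth.Agent.Lib.QCoh.Closure
import Groth.Agent.Lib.Modules.Stalk

/-!
# The Cech complex of sheaves is a resolution

Over an open `V` contained in a member of the family its sections are the contractible Cech complex
of the family `V ⊓ U j`; exactness is checked on stalks.
-/

set_option autoImplicit false
set_option linter.style.haveILetI false
universe u v w

open CategoryTheory CategoryTheory.Limits AlgebraicGeometry Opposite TopologicalSpace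

namespace Groth.Agent.Lib.CechShRes98.Basic

open Groth.Agent.Lib

noncomputable section

variable {X : Scheme.{u}} {ι : Type u} (U : ι → X.Opens)

section Generic

variable {A : Type v} [Category.{w} A] [HasProducts.{u} A] [Preadditive A]
  (P : (X.Opens)ᵒᵖ ⥤ A)

/-- The differential followed by a projection. -/
theorem d_π (q : ℕ) (i : Fin (q + 2) → ι) :
    ((cechComplexFunctor U).obj P).d q (q + 1) ≫
        Pi.π (fun i : Fin (q + 2) → ι => P.obj (op (∏ᶜ (U ∘ i)))) i =
      ∑ j : Fin (q + 2), (-1 : ℤ) ^ (j : ℕ) •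
        (Pi.π (fun i : Fin (q + 1) → ι => P.obj (op (∏ᶜ (U ∘ i)))) (i ∘ j.succAbove) ≫
          P.map (homOfLE ((Cech.Complex.pi_eq_inter U i).le.trans
            ((Cech.Complex.inter_le_face U i j).trans (Cech.Complex.pi_eq_inter U _).ge))).op) := by
  rw [show ((cechComplexFunctor U).obj P).d q (q + 1) =
    AlgebraicTopology.AlternatingCofaceMapComplex.objD
      ((FormalCoproduct.cosimplicialObjectFunctor (FormalCoproduct.mk _ U).cech).obj P) q from
    CochainComplex.of_d
      (fun n => ((FormalCoproduct.cosimplicialObjectFunctor (FormalCoproduct.mk _ U).cech).obj P).obj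
        (SimplexCategory.mk n)) _ q]
  simp only [AlgebraicTopology.AlternatingCofaceMapComplex.objD]
  erw [Preadditive.sum_comp]
  refine Finset.sum_congr rfl fun j _ => ?_
  erw [Preadditive.zsmul_comp]
  congr 1
  dsimp [CosimplicialObject.δ]
  erw [Pi.lift_π]
  rfl

end Generic

variable (F : X.Modules) (V : X.Opens)

/-- The family cut down to `V`. -/
abbrev fam : ι → X.Opens := fun j => V ⊓ U j

theorem openEq {q : ℕ} (i : Fin (q + 1) → ι) :
    (∏ᶜ (U ∘ i) : X.Opens).ι ''ᵁ ((∏ᶜ (U ∘ i) : X.Opens).ι ⁻¹ᵁ V) =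
      Cech.Complex.inter (fam U V) i := by
  rw [Scheme.Hom.image_preimage_eq_opensRange_inf, Scheme.Opens.opensRange_ι,
    Cech.Complex.pi_eq_inter, inf_comm]
  exact inf_iInf

/-- The complex. -/
abbrev C : CochainComplex X.Modules ℕ := (CechOX.cechSh U).obj F

/-- The projection of a term to its factor. -/
abbrev pr (q : ℕ) (i : Fin (q + 1) → ι) :
    (C U F).X q ⟶ (CechOX.pushRestr (∏ᶜ (U ∘ i))).obj F :=
  Pi.π (fun i : Fin (q + 1) → ι => (CechOX.pushRestr (∏ᶜ (U ∘ i))).obj F) i

/-- Restriction of sections along an equality of opens is bijective. -/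
theorem res_bijective {A B : X.Opens} (h : A = B) :
    Function.Bijective (Cech.Complex.res F.presheaf h.ge) := by
  subst h
  exact ⟨fun x y e => by simpa using e, fun x => ⟨x, by simp⟩⟩

/-- Sections of a term are families of sections of the factors. -/
theorem pr_bijective (q : ℕ) :
    Function.Bijective fun (s : Γ((C U F).X q, V)) (i : Fin (q + 1) → ι) => (pr U F q i).app V s := by
  let Φ := QCoh.Closure.sectionsFunctor V
  let M : (Fin (q + 1) → ι) → X.Modules := fun i => (CechOX.pushRestr (∏ᶜ (U ∘ i))).obj F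
  let e := (PreservesProduct.iso Φ M).addCommGroupIsoToAddEquiv.toEquiv.trans
    (Concrete.productEquiv fun i => Φ.obj (M i))
  have he : ∀ s i, e s i = (pr U F q i).app V s := fun s i => by
    simp only [e, Equiv.trans_apply]
    erw [Concrete.productEquiv_apply_apply]
    exact ConcreteCategory.congr_hom (piComparison_comp_π Φ M i) s
  exact ⟨fun a b h => e.injective (funext fun i => (he a i).trans ((congrFun h i).trans (he b i).symm)),
    fun c => ⟨e.symm c, funext fun i => (he _ i).symm.trans (congrFun (e.apply_symm_apply c) i)⟩⟩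

/-- Sections of a term as cochains. -/
def toCochain (q : ℕ) : Γ((C U F).X q, V) →+ Cech.Complex.Cochain (fam U V) F.presheaf q :=
  AddMonoidHom.mk' (fun s i => Cech.Complex.res F.presheaf (openEq U V i).ge ((pr U F q i).app V s))
    (fun s t => by
      funext i
      simp only [Pi.add_apply]
      erw [map_add, map_add])

theorem toCochain_bijective (q : ℕ) : Function.Bijective (toCochain U F V q) :=
  (Function.Bijective.piMap fun i => res_bijective F (openEq U V i)).comp (pr_bijective U F V q)

theorem toCochain_d (q : ℕ) (s : Γ((C U F).X q, V)) :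
    toCochain U F V (q + 1) (((C U F).d q (q + 1)).app V s) =
      Cech.Complex.dC (fam U V) F.presheaf q (toCochain U F V q s) := by
  funext i
  rw [Cech.Complex.dC_apply]
  let ev : ((C U F).X q ⟶ (CechOX.pushRestr (∏ᶜ (U ∘ i))).obj F) →+
      Γ((CechOX.pushRestr (∏ᶜ (U ∘ i))).obj F, V) :=
    AddMonoidHom.mk' (fun φ => φ.app V s) (fun φ ψ => rfl)
  have h := (congrArg ev (d_π U (CechOX.pushRestrFam.flip.obj F) q i)).trans (map_sum ev _ _)
  change Cech.Complex.res F.presheaf (openEq U V i).ge
    ((((C U F).d q (q + 1)) ≫ pr U F (q + 1) i).app V s) = _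
  refine (congrArg (Cech.Complex.res F.presheaf (openEq U V i).ge) h).trans ?_
  erw [map_sum]
  refine Finset.sum_congr rfl fun j _ => ?_
  erw [map_zsmul, map_zsmul]
  congr 1
  have hle : (∏ᶜ (U ∘ i) : X.Opens) ≤ ∏ᶜ (U ∘ (i ∘ j.succAbove)) :=
    (Cech.Complex.pi_eq_inter U i).le.trans
      ((Cech.Complex.inter_le_face U i j).trans (Cech.Complex.pi_eq_inter U _).ge)
  change Cech.Complex.res F.presheaf (openEq U V i).ge (Cech.Complex.res F.presheaf
      (CechOX.image_preimage_mono hle V) ((pr U F q (i ∘ j.succAbove)).app V s)) =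
    Cech.Complex.res F.presheaf (Cech.Complex.inter_le_face (fam U V) i j)
      (Cech.Complex.res F.presheaf (openEq U V (i ∘ j.succAbove)).ge
        ((pr U F q (i ∘ j.succAbove)).app V s))
  rw [Cech.Complex.res_res, Cech.Complex.res_res]

theorem iSup_fam_le : iSup (fam U V) ≤ V := iSup_le fun _ => inf_le_left

theorem toCochain_aug (a : Γ(F, V)) :
    toCochain U F V 0 ((CechOX.cechShAug U F).app V a) =
      Cech.Contract98.aug (fam U V) F.presheaf
        (Cech.Complex.res F.presheaf (iSup_fam_le U V) a) := by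
  funext i
  have h : CechOX.cechShAug U F ≫ pr U F 0 i =
      (Scheme.Modules.restrictAdjunction (∏ᶜ (U ∘ i) : X.Opens).ι).unit.app F :=
    Pi.lift_π _ _
  change Cech.Complex.res F.presheaf (openEq U V i).ge
    ((CechOX.cechShAug U F ≫ pr U F 0 i).app V a) =
    Cech.Complex.res F.presheaf _ (Cech.Complex.res F.presheaf _ a)
  rw [h, Scheme.Modules.restrictAdjunction_unit_app_app]
  erw [Cech.Complex.res_res, Cech.Complex.res_res]

theorem aug_d : CechOX.cechShAug U F ≫ (C U F).d 0 1 = 0 := by
  apply Scheme.Modules.hom_ext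
  intro V
  ext a
  apply (toCochain_bijective U F V 1).injective
  change toCochain U F V 1 (((C U F).d 0 1).app V ((CechOX.cechShAug U F).app V a)) =
    toCochain U F V 1 0
  rw [toCochain_d, toCochain_aug, Cech.Contract98.dC_aug, map_zero]

section Small

variable {V} {i : ι} (hi : V ≤ U i)

include hi in
theorem fam_top : fam U V i = iSup (fam U V) :=
  le_antisymm (le_iSup (fam U V) i) (iSup_le fun _ => inf_le_left.trans (le_inf le_rfl hi))

include hi in
theorem le_iSup_fam : V ≤ iSup (fam U V) :=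
  (le_inf le_rfl hi).trans (le_iSup (fam U V) i)

include hi in
theorem exact_succ (q : ℕ) (s : Γ((C U F).X (q + 1), V))
    (hs : ((C U F).d (q + 1) (q + 2)).app V s = 0) :
    ∃ t : Γ((C U F).X q, V), ((C U F).d q (q + 1)).app V t = s := by
  obtain ⟨t, ht⟩ := (toCochain_bijective U F V q).surjective
    (Cech.Contract98.hC _ _ i (fam_top U hi) q (toCochain U F V (q + 1) s))
  refine ⟨t, (toCochain_bijective U F V (q + 1)).injective ?_⟩
  rw [toCochain_d, ht]
  conv_rhs => rw [← Cech.Contract98.hC_dC_add_dC_hC _ _ i (fam_top U hi) q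
    (toCochain U F V (q + 1) s), ← toCochain_d, hs, map_zero, map_zero, zero_add]

include hi in
theorem exact_zero (s : Γ((C U F).X 0, V)) (hs : ((C U F).d 0 1).app V s = 0) :
    ∃ a : Γ(F, V), (CechOX.cechShAug U F).app V a = s := by
  refine ⟨Cech.Complex.res F.presheaf (le_iSup_fam U hi)
    (Cech.Contract98.ev _ _ i (fam_top U hi) (toCochain U F V 0 s)),
    (toCochain_bijective U F V 0).injective ?_⟩
  rw [toCochain_aug]
  conv_rhs => rw [← Cech.Contract98.hC_dC_add_aug_ev _ _ i (fam_top U hi)
    (toCochain U F V 0 s), ← toCochain_d, hs, map_zero, map_zero, zero_add]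
  rw [Cech.Complex.res_res, Cech.Complex.res_self]

include hi in
theorem aug_injective : Function.Injective ((CechOX.cechShAug U F).app V) := by
  intro a b h
  have h1 := congrArg (fun s => Cech.Complex.res F.presheaf (le_iSup_fam U hi)
    (Cech.Contract98.ev _ _ i (fam_top U hi) (toCochain U F V 0 s))) h
  simpa only [toCochain_aug, Cech.Contract98.ev_aug, Cech.Complex.res_res,
    Cech.Complex.res_self] using h1

end Small

variable {U}

theorem exists_small (hU : ⨆ i, U i = ⊤) {x : X} {W : X.Opens} (hx : x ∈ W) :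
    ∃ V : X.Opens, x ∈ V ∧ V ≤ W ∧ ∃ i, V ≤ U i := by
  obtain ⟨i, hi⟩ := Opens.mem_iSup.mp (hU.ge (Set.mem_univ x) : x ∈ ⨆ i, U i)
  exact ⟨W ⊓ U i, ⟨hx, hi⟩, inf_le_left, i, inf_le_right⟩

/-- Exactness on small opens gives exactness. -/
theorem exact_of_basis {S : ShortComplex X.Modules}
    (h : ∀ (x : X) (W : X.Opens), x ∈ W → ∃ V : X.Opens, x ∈ V ∧ V ≤ W ∧
      ∀ s : Γ(S.X₂, V), S.g.app V s = 0 → ∃ t : Γ(S.X₁, V), S.f.app V t = s) :
    S.Exact := by
  refine (Modules.Stalk.exact_iff_stalk S).mpr fun x =>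
    (ShortComplex.ab_exact_iff _).mpr fun e he => ?_
  obtain ⟨W, hxW, s, hs⟩ := TopCat.Presheaf.exists_germ_eq S.X₂.presheaf e
  subst hs
  change (Modules.Stalk.stalkFunctor X x).map S.g _ = 0 at he
  erw [Modules.Stalk.stalkFunctor_map_germ] at he
  replace he : S.X₃.presheaf.germ W x hxW (S.g.app W s) = S.X₃.presheaf.germ W x hxW 0 :=
    he.trans (map_zero (S.X₃.presheaf.germ W x hxW).hom).symm
  obtain ⟨W', hxW', i₁, i₂, hW'⟩ := TopCat.Presheaf.germ_eq _ x hxW hxW _ _ he
  obtain ⟨V, hxV, hVW', hV⟩ := h x W' hxW'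
  have hg : S.g.app V (S.X₂.presheaf.map ((homOfLE hVW') ≫ i₁).op s) = 0 := by
    have hn := ConcreteCategory.congr_hom (CechOX.app_naturality S.g ((homOfLE hVW') ≫ i₁).op) s
    refine hn.trans ?_
    rw [op_comp, Functor.map_comp]
    refine (congrArg (fun y => (Scheme.Modules.presheaf _).map (homOfLE hVW').op y) hW').trans ?_
    beta_reduce
    erw [map_zero, map_zero]
  obtain ⟨t, ht⟩ := hV _ hg
  refine ⟨S.X₁.presheaf.germ V x hxV t, ?_⟩
  change (Modules.Stalk.stalkFunctor X x).map S.f _ = _
  erw [Modules.Stalk.stalkFunctor_map_germ, ht]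
  exact TopCat.Presheaf.germ_res_apply _ _ _ _ _

theorem mono_aug (hU : ⨆ i, U i = ⊤) : Mono (CechOX.cechShAug U F) := by
  refine (Modules.Stalk.mono_iff_stalk_injective _).mpr fun x => ?_
  refine (injective_iff_map_eq_zero _).mpr fun e he => ?_
  obtain ⟨W, hxW, s, hs⟩ := TopCat.Presheaf.exists_germ_eq F.presheaf e
  subst hs
  erw [Modules.Stalk.stalkFunctor_map_germ] at he
  replace he : ((C U F).X 0).presheaf.germ W x hxW ((CechOX.cechShAug U F).app W s) =
      ((C U F).X 0).presheaf.germ W x hxW 0 :=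
    he.trans (map_zero (((C U F).X 0).presheaf.germ W x hxW).hom).symm
  obtain ⟨W', hxW', i₁, i₂, hW'⟩ := TopCat.Presheaf.germ_eq _ x hxW hxW _ _ he
  obtain ⟨V, hxV, hVW', i, hVi⟩ := exists_small hU hxW'
  have hz : F.presheaf.map ((homOfLE hVW') ≫ i₁).op s = 0 := by
    apply aug_injective U F hVi
    rw [map_zero]
    have hn := ConcreteCategory.congr_hom
      (CechOX.app_naturality (CechOX.cechShAug U F) ((homOfLE hVW') ≫ i₁).op) s
    refine hn.trans ?_
    rw [op_comp, Functor.map_comp]
    refine (congrArg (fun y => (Scheme.Modules.presheaf _).map (homOfLE hVW').op y) hW').trans ?_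
    beta_reduce
    erw [map_zero, map_zero]
  rw [← TopCat.Presheaf.germ_res_apply F.presheaf ((homOfLE hVW') ≫ i₁) x hxV s]
  erw [hz, map_zero]
  rfl

/-- The complex is a resolution. -/
theorem exact_aug (hU : ⨆ i, U i = ⊤) :
    (ShortComplex.mk (CechOX.cechShAug U F) ((C U F).d 0 1) (aug_d U F)).Exact :=
  exact_of_basis fun x W hx => by
    obtain ⟨V, hxV, hVW, i, hi⟩ := exists_small hU hx
    exact ⟨V, hxV, hVW, fun s hs => exact_zero U F hi s hs⟩

theorem isZero_homology (hU : ⨆ i, U i = ⊤) (p : ℕ) : IsZero ((C U F).homology (p + 1)) := by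
  rw [← HomologicalComplex.exactAt_iff_isZero_homology,
    HomologicalComplex.exactAt_iff' _ p (p + 1) (p + 2) (by simp) (by simp)]
  exact exact_of_basis fun x W hx => by
    obtain ⟨V, hxV, hVW, i, hi⟩ := exists_small hU hx
    exact ⟨V, hxV, hVW, fun s hs => exact_succ U F hi p s hs⟩

end

end Groth.Agent.Lib.CechShRes98.Basic
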